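import Cfsg.Agent.Lib.Peterfalvi.Sec14.Final

/-!
# The Odd Order Theorem (owner: helper65)

* `Cfsg.Agent.OddOrderTheorem.solvable` : every finite group of odd order is solvable
-/

set_option autoImplicit false

namespace Cfsg.Agent.OddOrderTheorem

open Cfsg

universe u

theorem solvable_of_card : ∀ (n : ℕ) (G : Type u) [Group G] [Finite G],
    Nat.card G = n → Odd n → Group.IsSolvable G := by
  intro n
  induction n using Nat.strong_induction_on with
  | _ n ih =>
    intro G _ _ hn hodd
    subst hn
    by_cases hN : ∃ N : Subgroup G, N.Normal ∧ N ≠ ⊥ ∧ N ≠ ⊤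
    · obtain ⟨N, hNn, hbot, htop⟩ := hN
      have hmul := Subgroup.card_eq_card_quotient_mul_card_subgroup N
      have h1 : 1 < Nat.card N := (Subgroup.one_lt_card_iff_ne_bot N).2 hbot
      have h2 : Nat.card N < Nat.card G :=
        lt_of_le_of_ne (Nat.le_of_dvd Nat.card_pos (Subgroup.card_subgroup_dvd_card N))
          fun e => htop (Subgroup.eq_top_of_card_eq N e)
      have hNs : Group.IsSolvable N :=
        ih _ h2 N rfl (hodd.of_dvd_nat (Subgroup.card_subgroup_dvd_card N))
      have hQs : Group.IsSolvable (G ⧸ N) :=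
        ih _ (by rw [hmul]; exact lt_mul_of_one_lt_right Nat.card_pos h1) (G ⧸ N) rfl
          (hodd.of_dvd_nat (Subgroup.card_quotient_dvd_card N))
      exact (Group.isSolvable_iff_subgroup_quotient N).2 ⟨hNs, hQs⟩
    · push Not at hN
      by_cases hcomm : IsMulCommutative G
      · exact Group.isSolvable_of_comm fun a b => hcomm.1.1 a b
      · exfalso
        haveI : Nontrivial G := not_subsingleton_iff_nontrivial.1 fun hs =>
          hcomm ⟨⟨fun a b => Subsingleton.elim _ _⟩⟩
        have hsimple : IsSimpleGroup G :=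
          ⟨fun N hNn => or_iff_not_imp_left.2 fun hb => hN N hNn hb⟩
        haveI := Fintype.ofFinite G
        refine Peterfalvi.Sec14.no_minSimpleOdd ⟨hodd, hsimple, hcomm, fun H hH => ?_⟩
        exact ih _ (lt_of_le_of_ne (Nat.le_of_dvd Nat.card_pos (Subgroup.card_subgroup_dvd_card H))
          fun e => hH (Subgroup.eq_top_of_card_eq H e)) H rfl
          (hodd.of_dvd_nat (Subgroup.card_subgroup_dvd_card H))

/-- The Odd Order Theorem. -/
theorem solvable {G : Type u} [Group G] [Finite G] (h : Odd (Nat.card G)) : Group.IsSolvable G :=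
  solvable_of_card _ G rfl h

end Cfsg.Agent.OddOrderTheorem
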