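import Cfsg.Agent.Lib.OddOrderTheorem.Basic
import Cfsg.Agent.Lib.FTUse.Hall

/-!
# The hypothesis of `FTUse` holds (owner: helper65)
-/

set_option autoImplicit false

namespace Cfsg.Agent.OddOrderTheorem

universe u

theorem oddSolvable : FTUse.OddSolvable.{u} := fun _ _ _ h => solvable h

end Cfsg.Agent.OddOrderTheorem
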